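import Mathlib
import Groth.Prelude.Def_Conn
import Groth.Prelude.Def_W4swconnpcurvhiggsLogLam

set_option autoImplicit false

universe v u

open TensorProduct

namespace Groth.Agent.Misc12.LC

variable {A : Type v} {B L E : Type u} [CommRing A] [CommRing B] [Algebra A B]
  [AddCommGroup L] [Module B L] [Module A L] [IsScalarTower A B L]
  [AddCommGroup E] [Module B E] [Module A E] [IsScalarTower A B E]

/-- The consequences of the coordinate hypotheses that the algebra of the pieces uses. -/
def IsCoord (nabla : E →ₗ[A] E ⊗[B] L) {n : ℕ} (ω : Module.Basis (Fin n) B L) (lam : B)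
    (t : Fin n → B) : Prop :=
  ∃ δ : Fin n → Derivation A B B, (∀ i j, i ≠ j → δ i (t j) = 0) ∧ (∀ i, δ i (t i) = 1) ∧
    ∀ (i : Fin n) (b : B) (x : E), LogConn.comp nabla ω i (b • x) =
      b • LogConn.comp nabla ω i x + (lam * t i * δ i b) • x

section

variable {n : ℕ}

theorem coord_iota {Ω : Type u} [AddCommGroup Ω] [Module B Ω] (t : Fin n → B)
    (bΩ : Module.Basis (Fin n) B Ω) (ω : Module.Basis (Fin n) B L) (ι : Ω →ₗ[B] L)
    (hι : ∀ i, ι (bΩ i) = t i • ω i) (i : Fin n) (η : Ω) :
    ω.coord i (ι η) = t i * bΩ.coord i η := by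
  have : (ω.coord i).comp ι = t i • bΩ.coord i := bΩ.ext fun j => by
    by_cases h : j = i
    · subst h; simp [hι]
    · simp [hι, h, Ne.symm h]
  exact LinearMap.congr_fun this η

theorem isCoord_of (lam : B) (t : Fin n → B) (bΩ : Module.Basis (Fin n) B (KaehlerDifferential A B))
    (hbΩ : ∀ i, bΩ i = KaehlerDifferential.D A B (t i))
    (ω : Module.Basis (Fin n) B L) (ι : KaehlerDifferential A B →ₗ[B] L)
    (hι : ∀ i, ι (KaehlerDifferential.D A B (t i)) = t i • ω i)
    (nabla : E →ₗ[A] E ⊗[B] L)
    (hc : Conn.IsLamConn (ι.compDer (KaehlerDifferential.D A B)) lam nabla) :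
    IsCoord nabla ω lam t := by
  refine ⟨fun i => (bΩ.coord i).compDer (KaehlerDifferential.D A B), fun i j h => ?_, fun i => ?_,
    fun i b x => ?_⟩
  · show bΩ.coord i (KaehlerDifferential.D A B (t j)) = 0
    rw [← hbΩ]; simp [h, Ne.symm h]
  · show bΩ.coord i (KaehlerDifferential.D A B (t i)) = 1
    rw [← hbΩ]; simp
  · have hc' := hc b x
    have hco := coord_iota t bΩ ω ι (fun j => by rw [hbΩ, hι]) i (KaehlerDifferential.D A B b)
    show Conn.along nabla (ω.coord i) (b • x) = b • Conn.along nabla (ω.coord i) x + _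
    rw [Conn.along_apply, Conn.along_apply, hc', map_add, map_add, map_smul, map_smul, map_smul,
      map_smul, TensorProduct.map_tmul, LinearMap.id_apply, TensorProduct.rid_tmul, smul_smul]
    congr 2
    rw [mul_assoc]
    exact congrArg (lam * ·) hco

variable (nabla : E →ₗ[A] E ⊗[B] L) (ω : Module.Basis (Fin n) B L)

omit [Module A L] [IsScalarTower A B L] in
theorem compProd_empty (x : E) : LogConn.compProd nabla ω ∅ x = x := by
  simp [LogConn.compProd]

omit [Module A L] [IsScalarTower A B L] in
theorem compProd_insert_min {i : Fin n} {J : Finset (Fin n)} (h : ∀ j ∈ J, i < j) (x : E) :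
    LogConn.compProd nabla ω (insert i J) x =
      LogConn.comp nabla ω i (LogConn.compProd nabla ω J x) := by
  simp only [LogConn.compProd]
  rw [Finset.sort_insert (· ≤ ·) (fun b hb => (h b hb).le) (fun hi => lt_irrefl i (h i hi))]
  rfl

variable {t : Fin n → B}

omit [Module A L] [IsScalarTower A B L] in
theorem mem_piece_gen {I J : Finset (Fin n)} (hJ : J ⊆ I) (x : E) :
    (∏ i ∈ I \ J, t i) • LogConn.compProd nabla ω J x ∈ LogConn.piece nabla ω t I :=
  Submodule.mem_iSup_of_mem J (Submodule.mem_iSup_of_mem (Finset.mem_powerset.mpr hJ) ⟨x, rfl⟩)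

omit [Module A L] [IsScalarTower A B L] in
theorem compProd_mem_piece (I : Finset (Fin n)) (x : E) :
    LogConn.compProd nabla ω I x ∈ LogConn.piece nabla ω t I := by
  simpa using mem_piece_gen nabla ω (t := t) (Finset.Subset.refl I) x

omit [Module A L] [IsScalarTower A B L] in
theorem piece_le {I : Finset (Fin n)} {P : Submodule A E}
    (h : ∀ J ⊆ I, ∀ x, (∏ i ∈ I \ J, t i) • LogConn.compProd nabla ω J x ∈ P) :
    LogConn.piece nabla ω t I ≤ P := by
  refine iSup₂_le fun J hJ => ?_
  rintro _ ⟨x, rfl⟩
  exact h J (Finset.mem_powerset.mp hJ) x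

omit [Module A L] [IsScalarTower A B L] in
/-- Multiplication by `t_{I ∖ J}` maps `E_J` into `E_I`. -/
theorem smul_piece_mem (t : Fin n → B) {I J : Finset (Fin n)} (hJ : J ⊆ I) {y : E}
    (hy : y ∈ LogConn.piece nabla ω t J) :
    (∏ i ∈ I \ J, t i) • y ∈ LogConn.piece nabla ω t I := by
  have h : LogConn.piece nabla ω t J ≤ (LogConn.piece nabla ω t I).comap
      ((LinearMap.lsmul B E (∏ i ∈ I \ J, t i)).restrictScalars A) := by
    refine piece_le nabla ω fun K hK x => ?_
    show (∏ i ∈ I \ J, t i) • ((∏ i ∈ J \ K, t i) • LogConn.compProd nabla ω K x) ∈ LogConn.piece nabla ω t I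
    rw [smul_smul, ← Finset.prod_union (by
      rw [Finset.disjoint_left]
      intro a ha ha'
      exact (Finset.mem_sdiff.mp ha).2 (Finset.mem_sdiff.mp ha').1)]
    rw [show (I \ J) ∪ (J \ K) = I \ K by
      ext a; simp only [Finset.mem_union, Finset.mem_sdiff]
      constructor
      · rintro (⟨h1, h2⟩ | ⟨h1, h2⟩)
        · exact ⟨h1, fun h => h2 (hK h)⟩
        · exact ⟨hJ h1, h2⟩
      · rintro ⟨h1, h2⟩
        by_cases h : a ∈ J
        · exact Or.inr ⟨h, h2⟩
        · exact Or.inl ⟨h1, h⟩]
    exact mem_piece_gen nabla ω (hK.trans hJ) x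
  exact h hy

variable {nabla ω} {lam : B}

theorem deriv_prod_eq_zero {δ : Fin n → Derivation A B B} (hδ : ∀ i j, i ≠ j → δ i (t j) = 0)
    {i : Fin n} {S : Finset (Fin n)} (hi : i ∉ S) : δ i (∏ j ∈ S, t j) = 0 := by
  induction S using Finset.induction with
  | empty => simp
  | insert a S ha ih =>
    rw [Finset.mem_insert, not_or] at hi
    rw [Finset.prod_insert ha, Derivation.leibniz, ih hi.2, hδ i a hi.1]
    simp

omit [Module A L] [IsScalarTower A B L] in
/-- A component passes through `t_S` when its index is not in `S`. -/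
theorem comp_smul_prod (h : IsCoord nabla ω lam t) {i : Fin n} {S : Finset (Fin n)} (hi : i ∉ S)
    (x : E) : LogConn.comp nabla ω i ((∏ j ∈ S, t j) • x) =
      (∏ j ∈ S, t j) • LogConn.comp nabla ω i x := by
  obtain ⟨δ, hδ, -, hL⟩ := h
  rw [hL, deriv_prod_eq_zero hδ hi, mul_zero, zero_smul, add_zero]

omit [Module A L] [IsScalarTower A B L] in
/-- `∇ᵢ` maps `E_J` into `E_{J + i}` when `i` is below every element of `J`. -/
theorem comp_min_mem (h : IsCoord nabla ω lam t) {i : Fin n} {J : Finset (Fin n)}
    (hi : ∀ j ∈ J, i < j) {y : E} (hy : y ∈ LogConn.piece nabla ω t J) :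
    LogConn.comp nabla ω i y ∈ LogConn.piece nabla ω t (insert i J) := by
  have hle : LogConn.piece nabla ω t J ≤
      (LogConn.piece nabla ω t (insert i J)).comap (LogConn.comp nabla ω i) := by
    refine piece_le nabla ω fun K hK x => ?_
    show LogConn.comp nabla ω i _ ∈ LogConn.piece nabla ω t (insert i J)
    have hiJ : i ∉ J := fun hm => lt_irrefl i (hi i hm)
    rw [comp_smul_prod h (fun hm => hiJ (Finset.mem_sdiff.mp hm).1),
      ← compProd_insert_min nabla ω (fun j hj => hi j (hK hj))]
    rw [show J \ K = insert i J \ insert i K by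
      rw [Finset.insert_sdiff_of_mem _ (Finset.mem_insert_self i K),
        Finset.sdiff_insert, Finset.erase_eq_of_notMem (fun hm => hiJ (Finset.mem_sdiff.mp hm).1)]]
    exact mem_piece_gen nabla ω (Finset.insert_subset_insert i hK) x
  exact hle hy

omit [Module A L] [IsScalarTower A B L] in
theorem smul_compProd_mem (h : IsCoord nabla ω lam t) (J : Finset (Fin n)) (b : B) (x : E) :
    b • LogConn.compProd nabla ω J x ∈ LogConn.piece nabla ω t J := by
  induction J using Finset.induction_on_min generalizing b x with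
  | empty =>
    have := compProd_mem_piece nabla ω (t := t) ∅ (b • x)
    rwa [compProd_empty] at this ⊢
  | insert i J hi ih =>
    obtain ⟨δ, -, -, hL⟩ := id h
    rw [compProd_insert_min nabla ω hi]
    have e : b • LogConn.comp nabla ω i (LogConn.compProd nabla ω J x) =
        LogConn.comp nabla ω i (b • LogConn.compProd nabla ω J x) -
          t i • ((lam * δ i b) • LogConn.compProd nabla ω J x) := by
      rw [hL, smul_smul, show t i * (lam * δ i b) = lam * t i * δ i b by ring, add_sub_cancel_right]
    rw [e]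
    refine Submodule.sub_mem _ (comp_min_mem h hi (ih b x)) ?_
    have h2 := smul_piece_mem nabla ω t (Finset.subset_insert i J) (ih (lam * δ i b) x)
    rwa [Finset.insert_sdiff_of_notMem _ (fun hm => lt_irrefl i (hi i hm)), Finset.sdiff_self,
      insert_empty_eq, Finset.prod_singleton] at h2

omit [Module A L] [IsScalarTower A B L] in
theorem smul_mem_piece (h : IsCoord nabla ω lam t) {I : Finset (Fin n)} (b : B) {y : E}
    (hy : y ∈ LogConn.piece nabla ω t I) : b • y ∈ LogConn.piece nabla ω t I := by
  have hle : LogConn.piece nabla ω t I ≤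
      (LogConn.piece nabla ω t I).comap ((LinearMap.lsmul B E b).restrictScalars A) := by
    refine piece_le nabla ω fun J hJ x => ?_
    show b • ((∏ i ∈ I \ J, t i) • LogConn.compProd nabla ω J x) ∈ LogConn.piece nabla ω t I
    rw [smul_comm]
    exact smul_piece_mem nabla ω t hJ (smul_compProd_mem h J b x)
  exact hle hy

omit [Module A L] [IsScalarTower A B L] in
/-- The expansion of `∇_J (b • y)` over the `t_{J ∖ K} ∇_K y`. -/
theorem compProd_smul_mem (h : IsCoord nabla ω lam t) (J : Finset (Fin n)) (b : B) (y : E) :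
    LogConn.compProd nabla ω J (b • y) ∈ Submodule.span B
      {z | ∃ K ⊆ J, z = (∏ i ∈ J \ K, t i) • LogConn.compProd nabla ω K y} := by
  induction J using Finset.induction_on_min generalizing b with
  | empty =>
    rw [compProd_empty]
    refine Submodule.smul_mem _ _ (Submodule.subset_span ⟨∅, Finset.Subset.refl _, ?_⟩)
    simp [compProd_empty]
  | insert i J hi ih =>
    obtain ⟨δ, -, -, hL⟩ := id h
    have hiJ : i ∉ J := fun hm => lt_irrefl i (hi i hm)
    rw [compProd_insert_min nabla ω hi]
    have hgen : ∀ z ∈ Submodule.span B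
        {z | ∃ K ⊆ J, z = (∏ i ∈ J \ K, t i) • LogConn.compProd nabla ω K y},
        LogConn.comp nabla ω i z ∈ Submodule.span B
          {z | ∃ K ⊆ insert i J, z = (∏ l ∈ insert i J \ K, t l) • LogConn.compProd nabla ω K y} ∧
        t i • z ∈ Submodule.span B
          {z | ∃ K ⊆ insert i J, z = (∏ l ∈ insert i J \ K, t l) • LogConn.compProd nabla ω K y} := by
      intro z hz
      induction hz using Submodule.span_induction with
      | mem z hz =>
        obtain ⟨K, hK, rfl⟩ := hz
        constructor
        · refine Submodule.subset_span ⟨insert i K, Finset.insert_subset_insert i hK, ?_⟩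
          rw [comp_smul_prod h (fun hm => hiJ (Finset.mem_sdiff.mp hm).1),
            ← compProd_insert_min nabla ω (fun j hj => hi j (hK hj)),
            Finset.insert_sdiff_of_mem _ (Finset.mem_insert_self i K),
            Finset.sdiff_insert, Finset.erase_eq_of_notMem (fun hm => hiJ (Finset.mem_sdiff.mp hm).1)]
        · refine Submodule.subset_span ⟨K, hK.trans (Finset.subset_insert i J), ?_⟩
          rw [smul_smul, Finset.insert_sdiff_of_notMem _ (fun hm => hiJ (hK hm)),
            Finset.prod_insert (fun hm => hiJ (Finset.mem_sdiff.mp hm).1)]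
      | zero => simp
      | add z w _ _ hz hw =>
        exact ⟨by rw [map_add]; exact Submodule.add_mem _ hz.1 hw.1,
          by rw [smul_add]; exact Submodule.add_mem _ hz.2 hw.2⟩
      | smul c z _ hz =>
        refine ⟨?_, by rw [smul_comm]; exact Submodule.smul_mem _ c hz.2⟩
        rw [hL, show (lam * t i * δ i c) • z = (lam * δ i c) • (t i • z) by
          rw [smul_smul]; congr 1; ring]
        exact Submodule.add_mem _ (Submodule.smul_mem _ _ hz.1) (Submodule.smul_mem _ _ hz.2)
    exact (hgen _ (ih b)).1

omit [Module A L] [IsScalarTower A B L] in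
theorem span_gens_eq_piece (h : IsCoord nabla ω lam t) {m : ℕ} (e : Fin m → E)
    (he : Submodule.span B (Set.range e) = ⊤) (I : Finset (Fin n)) :
    (Submodule.span B (⋃ J ∈ I.powerset, Set.range (fun k : Fin m =>
        (∏ i ∈ I \ J, t i) • LogConn.compProd nabla ω J (e k)))).restrictScalars A =
      LogConn.piece nabla ω t I := by
  apply le_antisymm
  · intro z hz
    rw [Submodule.restrictScalars_mem] at hz
    induction hz using Submodule.span_induction with
    | mem z hz =>
      simp only [Set.mem_iUnion, Set.mem_range] at hz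
      obtain ⟨J, hJ, k, rfl⟩ := hz
      exact mem_piece_gen nabla ω (Finset.mem_powerset.mp hJ) _
    | zero => exact Submodule.zero_mem _
    | add z w _ _ hz hw => exact Submodule.add_mem _ hz hw
    | smul c z _ hz => exact smul_mem_piece h c hz
  · refine piece_le nabla ω fun J hJ x => ?_
    rw [Submodule.restrictScalars_mem]
    obtain ⟨c, rfl⟩ := (Submodule.mem_span_range_iff_exists_fun B).mp
      (he ▸ Submodule.mem_top : x ∈ Submodule.span B (Set.range e))
    rw [map_sum, Finset.smul_sum]
    refine Submodule.sum_mem _ fun k _ => ?_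
    have h1 := compProd_smul_mem h J (c k) (e k)
    generalize LogConn.compProd nabla ω J (c k • e k) = z at h1
    induction h1 using Submodule.span_induction with
    | mem z hz =>
      obtain ⟨K, hK, rfl⟩ := hz
      refine Submodule.subset_span ?_
      simp only [Set.mem_iUnion, Set.mem_range]
      refine ⟨K, Finset.mem_powerset.mpr (hK.trans hJ), k, ?_⟩
      rw [smul_smul, ← Finset.prod_union (by
        rw [Finset.disjoint_left]
        intro a ha ha'
        exact (Finset.mem_sdiff.mp ha).2 (Finset.mem_sdiff.mp ha').1)]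
      congr 2
      ext a; simp only [Finset.mem_union, Finset.mem_sdiff]
      constructor
      · rintro ⟨h1, h2⟩
        by_cases h : a ∈ J
        · exact Or.inr ⟨h, h2⟩
        · exact Or.inl ⟨h1, h⟩
      · rintro (⟨h1, h2⟩ | ⟨h1, h2⟩)
        · exact ⟨h1, fun h => h2 (hK h)⟩
        · exact ⟨hJ h1, h2⟩
    | zero => rw [smul_zero]; exact Submodule.zero_mem _
    | add z w _ _ hz hw => rw [smul_add]; exact Submodule.add_mem _ hz hw
    | smul d z _ hz => rw [smul_comm]; exact Submodule.smul_mem _ d hz

end

end Groth.Agent.Misc12.LC
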