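import Mathlib
import Groth.Agent.Misc12.LC.Pieces

set_option autoImplicit false

universe v u

open TensorProduct

namespace Groth.Agent.Misc12.LC

variable {A : Type v} {B L E : Type u} [CommRing A] [CommRing B] [Algebra A B]
  [AddCommGroup L] [Module B L]
  [AddCommGroup E] [Module B E] [Module A E] [IsScalarTower A B E]
  {n : ℕ} {nabla : E →ₗ[A] E ⊗[B] L} {ω : Module.Basis (Fin n) B L} {t : Fin n → B} {lam : B}

theorem prod_emb (f : Fin n → B) (K : Finset (Fin n)) {p : ℕ} (h : K.card = p) :
    ∏ k : Fin p, f (K.orderEmbOfFin h k) = ∏ i ∈ K, f i := by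
  conv_rhs => rw [← Finset.map_orderEmbOfFin_univ K h, Finset.prod_map]
  rfl

theorem coord_basis (i j : Fin n) : ω.coord i (ω j) = if j = i then 1 else 0 := by
  rw [Module.Basis.coord_apply, Module.Basis.repr_self, Finsupp.single_apply]

theorem coordE_tmul (p : ℕ) (K : Set.powersetCard (Fin n) p) (y : E) (v : Fin p → L) :
    LogConn.coordE ω p K (y ⊗ₜ[B] exteriorPower.ιMulti B p v) =
      (Matrix.of fun a b => ω.coord ((K : Finset (Fin n)).orderEmbOfFin K.prop b) (v a)).det • y := by
  simp only [LogConn.coordE, LinearMap.comp_apply, TensorProduct.map_tmul, LinearMap.id_apply,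
    LinearEquiv.coe_coe, TensorProduct.rid_tmul]
  rw [exteriorPower.basis_coord, exteriorPower.ιMultiDual_apply_ιMulti]
  rfl

theorem mem_layer {p : ℕ} {x : E ⊗[B] ↥(⋀[B]^p L)} :
    x ∈ LogConn.layer nabla ω t p ↔
      ∀ K : Set.powersetCard (Fin n) p, LogConn.coordE ω p K x ∈ LogConn.piece nabla ω t (K : Finset (Fin n)) := by
  simp only [LogConn.layer, Submodule.mem_iInf]
  rfl

theorem smul_mem_layer (h : IsCoord nabla ω lam t) {p : ℕ} (b : B) {x : E ⊗[B] ↥(⋀[B]^p L)}
    (hx : x ∈ LogConn.layer nabla ω t p) : b • x ∈ LogConn.layer nabla ω t p := by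
  rw [mem_layer] at hx ⊢
  intro K
  rw [map_smul]
  exact smul_mem_piece h b (hx K)

/-- The forms whose `i`-th coordinate is divisible by `tᵢ` (forms without poles). -/
def polefree (ω : Module.Basis (Fin n) B L) (t : Fin n → B) : Set L :=
  {x | ∀ i, ∃ c, ω.coord i x = t i * c}

/-- A tensor `y ⊗ v` lies in the layer when `y ∈ E_I` and the slots of `v` are the `ωᵢ`, `i ∈ I`,
and forms without poles. -/
theorem tmul_mem_layer (h : IsCoord nabla ω lam t) {p : ℕ} {I : Finset (Fin n)} {y : E}
    (hy : y ∈ LogConn.piece nabla ω t I) {v : Fin p → L}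
    (hv : ∀ a, (∃ i ∈ I, v a = ω i) ∨ v a ∈ polefree ω t)
    (hI : ∀ i ∈ I, ∃ a, v a = ω i) :
    y ⊗ₜ[B] exteriorPower.ιMulti B p v ∈ LogConn.layer nabla ω t p := by
  classical
  rw [mem_layer]
  intro K
  rw [coordE_tmul]
  by_cases hIK : I ⊆ (K : Finset (Fin n))
  · have hdiv : ∀ a b, ∃ c, ω.coord ((K : Finset (Fin n)).orderEmbOfFin K.prop b) (v a) =
        (if ((K : Finset (Fin n)).orderEmbOfFin K.prop b) ∈ I then 1
          else t ((K : Finset (Fin n)).orderEmbOfFin K.prop b)) * c := by
      intro a b
      split_ifs with hb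
      · exact ⟨_, (one_mul _).symm⟩
      · rcases hv a with ⟨i, hi, hva⟩ | hp
        · refine ⟨0, ?_⟩
          rw [hva, coord_basis, if_neg, mul_zero]
          intro he
          exact hb (he ▸ hi)
        · exact hp _
    choose c hc using hdiv
    rw [show (Matrix.of fun a b => ω.coord ((K : Finset (Fin n)).orderEmbOfFin K.prop b) (v a))
        = Matrix.of fun a b => (fun k => if k ∈ I then 1 else t k)
            ((K : Finset (Fin n)).orderEmbOfFin K.prop b) * Matrix.of c a b by
      ext a b; exact hc a b,
      Matrix.det_mul_row, prod_emb (fun k => if k ∈ I then 1 else t k), mul_comm, mul_smul]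
    refine smul_mem_piece h _ ?_
    rw [← Finset.prod_sdiff hIK, Finset.prod_congr rfl (fun k hk => if_neg (Finset.mem_sdiff.mp hk).2),
      Finset.prod_congr rfl (fun k hk => if_pos hk), Finset.prod_const_one, mul_one]
    exact smul_piece_mem nabla ω t hIK hy
  · obtain ⟨i, hi, hiK⟩ := Finset.not_subset.mp hIK
    obtain ⟨a, ha⟩ := hI i hi
    rw [Matrix.det_eq_zero_of_row_eq_zero a, zero_smul]
    · exact Submodule.zero_mem _
    · intro b
      rw [Matrix.of_apply, ha, coord_basis, if_neg]
      intro he
      exact hiK (he ▸ Finset.orderEmbOfFin_mem _ _ _)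

theorem sum_coordE (p : ℕ) (x : E ⊗[B] ↥(⋀[B]^p L)) :
    x = ∑ K : Set.powersetCard (Fin n) p, LogConn.coordE ω p K x ⊗ₜ[B] ω.exteriorPower p K := by
  induction x using TensorProduct.induction_on with
  | zero => simp
  | add a b ha hb =>
    simp only [map_add, TensorProduct.add_tmul, Finset.sum_add_distrib]
    rw [← ha, ← hb]
  | tmul y η =>
    refine ((congrArg (fun η' : ↥(⋀[B]^p L) => y ⊗ₜ[B] η') ((ω.exteriorPower p).sum_repr η).symm).trans
      (TensorProduct.tmul_sum _ _ _)).trans (Finset.sum_congr rfl fun K _ => ?_)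
    rw [← TensorProduct.smul_tmul]
    rfl

theorem basis_eq (p : ℕ) (K : Set.powersetCard (Fin n) p) :
    ω.exteriorPower p K =
      exteriorPower.ιMulti B p (fun a => ω ((K : Finset (Fin n)).orderEmbOfFin K.prop a)) := by
  rw [exteriorPower.basis_apply]
  rfl

theorem iota_mem_polefree {Ω : Type u} [AddCommGroup Ω] [Module B Ω]
    (bΩ : Module.Basis (Fin n) B Ω) (ι : Ω →ₗ[B] L)
    (hι : ∀ i, ι (bΩ i) = t i • ω i) (η : Ω) : ι η ∈ polefree ω t :=
  fun i => ⟨_, coord_iota t bΩ ω ι hι i η⟩

theorem span_gens_eq_layer {Ω : Type u} [AddCommGroup Ω]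
    [Module B Ω] (h : IsCoord nabla ω lam t)
    (bΩ : Module.Basis (Fin n) B Ω) (ι : Ω →ₗ[B] L) (hι : ∀ i, ι (bΩ i) = t i • ω i) (p : ℕ) :
    (Submodule.span B (LogConn.gens nabla ω ι p)).restrictScalars A =
      LogConn.layer nabla ω t p := by
  classical
  apply le_antisymm
  · intro x hx
    rw [Submodule.restrictScalars_mem] at hx
    induction hx using Submodule.span_induction with
    | mem x hx =>
      obtain ⟨I, hI, e, v, hv1, hv2, rfl⟩ := hx
      refine tmul_mem_layer h (compProd_mem_piece nabla ω I e) (fun a => ?_) (fun i hi => ?_)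
      · by_cases ha : a.val < I.card
        · exact Or.inl ⟨_, Finset.orderEmbOfFin_mem _ _ _, hv1 a ha⟩
        · obtain ⟨η, hη⟩ := hv2 a (not_lt.mp ha)
          exact Or.inr (hη ▸ iota_mem_polefree bΩ ι hι η)
      · have : i ∈ Set.range (I.orderEmbOfFin rfl) := by
          rw [Finset.range_orderEmbOfFin]; exact hi
        obtain ⟨k, rfl⟩ := this
        exact ⟨⟨k.val, lt_of_lt_of_le k.isLt hI⟩, hv1 _ k.isLt⟩
    | zero => exact Submodule.zero_mem _
    | add a b _ _ ha hb => exact Submodule.add_mem _ ha hb
    | smul c a _ ha => exact smul_mem_layer h c ha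
  · intro x hx
    rw [mem_layer] at hx
    rw [sum_coordE (ω := ω) p x]
    refine Submodule.sum_mem _ fun K _ => ?_
    have hle : LogConn.piece nabla ω t (K : Finset (Fin n)) ≤
        ((Submodule.span B (LogConn.gens nabla ω ι p)).comap
          ((TensorProduct.mk B E ↥(⋀[B]^p L)).flip (ω.exteriorPower p K))).restrictScalars A := by
      refine piece_le nabla ω fun J hJ e => ?_
      show ((∏ i ∈ (K : Finset (Fin n)) \ J, t i) • LogConn.compProd nabla ω J e) ⊗ₜ[B]
        ω.exteriorPower p K ∈ Submodule.span B (LogConn.gens nabla ω ι p)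
      have hJp : J.card ≤ p := by
        have := Finset.card_le_card hJ
        have h2 : (K : Finset (Fin n)).card = p := K.prop
        omega
      have hcard : ((K : Finset (Fin n)) \ J).card = p - J.card := by
        rw [Finset.card_sdiff_of_subset hJ]
        have h2 : (K : Finset (Fin n)).card = p := K.prop
        omega
      -- the reordering: `J` first, then the rest
      let σ : Fin p → Fin n := fun k =>
        if hk : k.val < J.card then J.orderEmbOfFin rfl ⟨k.val, hk⟩
        else ((K : Finset (Fin n)) \ J).orderEmbOfFin hcard ⟨k.val - J.card, by have := k.isLt; omega⟩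
      have hσJ : ∀ k : Fin p, σ k ∈ J ↔ k.val < J.card := by
        intro k
        by_cases hk : k.val < J.card
        · simp only [σ, dif_pos hk, hk, iff_true]
          exact Finset.orderEmbOfFin_mem _ _ _
        · simp only [σ, dif_neg hk, hk, iff_false]
          exact (Finset.mem_sdiff.mp (Finset.orderEmbOfFin_mem _ hcard _)).2
      have hσK : ∀ k, σ k ∈ (K : Finset (Fin n)) := by
        intro k
        by_cases hk : k.val < J.card
        · simp only [σ, dif_pos hk]
          exact hJ (Finset.orderEmbOfFin_mem _ _ _)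
        · simp only [σ, dif_neg hk]
          exact (Finset.mem_sdiff.mp (Finset.orderEmbOfFin_mem _ hcard _)).1
      have hσinj : Function.Injective σ := by
        intro a b hab
        have hiff : a.val < J.card ↔ b.val < J.card := by rw [← hσJ, ← hσJ, hab]
        by_cases ha : a.val < J.card
        · simp only [σ, dif_pos ha, dif_pos (hiff.mp ha)] at hab
          exact Fin.ext (Fin.mk.inj_iff.mp ((J.orderEmbOfFin rfl).injective hab))
        · simp only [σ, dif_neg ha, dif_neg (mt hiff.mpr ha)] at hab
          have h1 := Fin.mk.inj_iff.mp ((((K : Finset (Fin n)) \ J).orderEmbOfFin hcard).injective hab)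
          have := mt hiff.mpr ha
          exact Fin.ext (by omega)
      set emb := (K : Finset (Fin n)).orderEmbOfFin K.prop with hemb
      have hperm : ∀ k, ∃ k', emb k' = σ k := by
        intro k
        have : σ k ∈ Set.range emb := by rw [hemb, Finset.range_orderEmbOfFin]; exact hσK k
        exact this
      choose π hπ using hperm
      have hπinj : Function.Injective π := fun a b hab => hσinj (by rw [← hπ a, ← hπ b, hab])
      let πe : Equiv.Perm (Fin p) := Equiv.ofBijective π (Finite.injective_iff_bijective.mp hπinj)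
      let f : Fin n → B := fun i => if i ∈ J then 1 else t i
      let v : Fin p → L := fun k => f (σ k) • ω (σ k)
      have hgen : LogConn.compProd nabla ω J e ⊗ₜ[B] exteriorPower.ιMulti B p v ∈
          LogConn.gens nabla ω ι p := by
        refine ⟨J, hJp, e, v, fun k hk => ?_, fun k hk => ?_, rfl⟩
        · simp only [v, f, if_pos ((hσJ k).mpr hk), one_smul]
          simp only [σ, dif_pos hk]
        · refine ⟨bΩ (σ k), ?_⟩
          simp only [v, f, if_neg (fun hm => (not_lt.mpr hk) ((hσJ k).mp hm)), hι]
      have hprod : (∏ k : Fin p, f (σ k)) = ∏ i ∈ (K : Finset (Fin n)) \ J, t i := by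
        rw [show (∏ k : Fin p, f (σ k)) = ∏ k : Fin p, f (emb k) from
          Fintype.prod_equiv πe _ _ (fun k => by
            show f (σ k) = f (emb (π k))
            rw [hπ]), prod_emb, ← Finset.prod_sdiff hJ,
          Finset.prod_congr rfl (fun k hk => if_neg (Finset.mem_sdiff.mp hk).2),
          Finset.prod_congr rfl (fun k hk => if_pos hk), Finset.prod_const_one, mul_one]
      have hv : exteriorPower.ιMulti B p v = (∏ i ∈ (K : Finset (Fin n)) \ J, t i) •
          (Equiv.Perm.sign πe • ω.exteriorPower p K) := by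
        rw [← hprod, basis_eq, ← AlternatingMap.map_perm]
        have hc : ((fun a => ω (emb a)) ∘ ⇑πe) = fun k => ω (σ k) := by
          funext k
          show ω (emb (π k)) = ω (σ k)
          rw [hπ]
        rw [hc]
        exact AlternatingMap.map_smul_univ _ _ _
      rcases Int.units_eq_one_or (Equiv.Perm.sign πe) with hs | hs
      · rw [hs, one_smul] at hv
        rw [TensorProduct.smul_tmul, ← hv]
        exact Submodule.subset_span hgen
      · rw [hs, Units.neg_smul, one_smul, smul_neg] at hv
        rw [TensorProduct.smul_tmul, ← neg_neg ((∏ i ∈ (K : Finset (Fin n)) \ J, t i) •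
          ω.exteriorPower p K), ← hv, TensorProduct.tmul_neg]
        exact Submodule.neg_mem _ (Submodule.subset_span hgen)
    exact hle (hx K)

end Groth.Agent.Misc12.LC
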