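import Mathlib
import Groth.Agent.Misc12.LC.Layer
import Groth.Prelude.Def_LogDiff

set_option autoImplicit false

universe v u

open TensorProduct

namespace Groth.Agent.Misc12.LC

variable {A : Type v} {B L E : Type u} [CommRing A] [CommRing B] [Algebra A B]
  [AddCommGroup L] [Module B L] [Module A L] [IsScalarTower A B L]
  [AddCommGroup E] [Module B E] [Module A E] [IsScalarTower A B E]
  {n : ℕ} {nabla : E →ₗ[A] E ⊗[B] L} {ω : Module.Basis (Fin n) B L} {t : Fin n → B} {lam : B}

omit [Module A L] [IsScalarTower A B L] in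
theorem oneEquiv_symm (m : L) :
    (exteriorPower.oneEquiv B L).symm m = exteriorPower.ιMulti B 1 (fun _ => m) := by
  rw [LinearEquiv.symm_apply_eq, exteriorPower.oneEquiv_ιMulti]

omit [Module A L] [IsScalarTower A B L] in
theorem wedge_iota (p : ℕ) (m : L) (v : Fin p → L) :
    Conn.wedge p ((exteriorPower.oneEquiv B L).symm m) (exteriorPower.ιMulti B p v)
      = exteriorPower.ιMulti B (p + 1) (Fin.cons m v) := by
  apply Subtype.ext
  rw [Conn.wedge_apply_coe, oneEquiv_symm]
  simp only [exteriorPower.ιMulti_apply_coe]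
  rw [ExteriorAlgebra.ιMulti_succ_apply (v := Fin.cons m v),
    ExteriorAlgebra.ιMulti_succ_apply (n := 0) (v := fun _ => m)]
  simp [Matrix.vecTail, Function.comp_def]

omit [Module A L] [IsScalarTower A B L] in
theorem sum_comp (z : E ⊗[B] L) :
    z = ∑ i, (TensorProduct.rid B E (TensorProduct.map LinearMap.id (ω.coord i) z)) ⊗ₜ[B] ω i := by
  induction z using TensorProduct.induction_on with
  | zero => simp
  | add a b ha hb =>
    simp only [map_add, TensorProduct.add_tmul, Finset.sum_add_distrib]
    rw [← ha, ← hb]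
  | tmul y η =>
    refine ((congrArg (fun η' : L => y ⊗ₜ[B] η') (ω.sum_repr η).symm).trans
      (TensorProduct.tmul_sum _ _ _)).trans (Finset.sum_congr rfl fun i _ => ?_)
    rw [← TensorProduct.smul_tmul]
    rfl

theorem dwedge_eq_zero {δ : Derivation A B (KaehlerDifferential A B)}
    {ι : KaehlerDifferential A B →ₗ[B] L}
    {d : ∀ p : ℕ, ↥(⋀[B]^p L) →ₗ[A] ↥(⋀[B]^(p + 1) L)}
    (hd : LogDiff.IsLogRule δ ι (⇑ω) d) (p : ℕ) (f : Fin p → Fin n) :
    d p (exteriorPower.ιMulti B p (fun a => ω (f a))) = 0 := by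
  have := hd p 1 (fun a => ω (f a)) (fun a => Or.inr ⟨f a, rfl⟩)
  rw [one_smul] at this
  rw [this]
  refine AlternatingMap.map_coord_zero _ 0 ?_
  rw [Fin.cons_zero, Derivation.map_one_eq_zero, map_zero]

/-- `∇^p (y ⊗ ω_f) = Σᵢ ∇ᵢ y ⊗ ωᵢ ∧ ω_f`. -/
theorem nablas_tmul {δ : Derivation A B (KaehlerDifferential A B)}
    {ι : KaehlerDifferential A B →ₗ[B] L}
    {d : ∀ p : ℕ, ↥(⋀[B]^p L) →ₗ[A] ↥(⋀[B]^(p + 1) L)}
    (hd : LogDiff.IsLogRule δ ι (⇑ω) d)
    {nablas : ∀ p : ℕ, E ⊗[B] ↥(⋀[B]^p L) →ₗ[A] E ⊗[B] ↥(⋀[B]^(p + 1) L)}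
    (hrule : Conn.IsCxRule nabla (fun p => lam • d p) nablas) (p : ℕ) (f : Fin p → Fin n) (y : E) :
    nablas p (y ⊗ₜ[B] exteriorPower.ιMulti B p (fun a => ω (f a))) =
      ∑ i, LogConn.comp nabla ω i y ⊗ₜ[B]
        exteriorPower.ιMulti B (p + 1) (Fin.cons (ω i) (fun a => ω (f a))) := by
  rw [hrule]
  simp only [LinearMap.smul_apply, dwedge_eq_zero hd, smul_zero, TensorProduct.tmul_zero, add_zero]
  conv_lhs => rw [sum_comp (ω := ω) (nabla y)]
  rw [map_sum, map_sum, LinearMap.sum_apply]
  refine Finset.sum_congr rfl fun i _ => ?_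
  rw [Conn.toOne_tmul, Conn.twedge_tmul, wedge_iota]
  rfl

/-- For an integrable `∇` the components commute. -/
theorem comp_comm {δ : Derivation A B (KaehlerDifferential A B)}
    {ι : KaehlerDifferential A B →ₗ[B] L}
    {d : ∀ p : ℕ, ↥(⋀[B]^p L) →ₗ[A] ↥(⋀[B]^(p + 1) L)}
    (hd : LogDiff.IsLogRule δ ι (⇑ω) d)
    {nablas : ∀ p : ℕ, E ⊗[B] ↥(⋀[B]^p L) →ₗ[A] E ⊗[B] ↥(⋀[B]^(p + 1) L)}
    (hint : Conn.IsIntegrable nabla (fun p => lam • d p) nablas) (a b : Fin n) (x : E) :
    LogConn.comp nabla ω a (LogConn.comp nabla ω b x) =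
      LogConn.comp nabla ω b (LogConn.comp nabla ω a x) := by
  classical
  rcases eq_or_ne a b with rfl | hab
  · rfl
  have h0 := hint.2 x
  rw [sum_comp (ω := ω) (nabla x), map_sum, map_sum] at h0
  have hterm : ∀ i, nablas 1 (Conn.toOne ((TensorProduct.rid B E
      (TensorProduct.map LinearMap.id (ω.coord i) (nabla x))) ⊗ₜ[B] ω i)) =
      ∑ j, LogConn.comp nabla ω j (LogConn.comp nabla ω i x) ⊗ₜ[B]
        exteriorPower.ιMulti B 2 (Fin.cons (ω j) (fun _ => ω i)) := by
    intro i
    rw [Conn.toOne_tmul, oneEquiv_symm, nablas_tmul hd hint.1 1 (fun _ => i)]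
    rfl
  rw [Finset.sum_congr rfl fun i _ => hterm i] at h0
  -- contract with `ω_a^* ∧ ω_b^*`
  let φ : ↥(⋀[B]^2 L) →ₗ[B] B :=
    exteriorPower.pairingDual B L 2 (exteriorPower.ιMulti B 2 ![ω.coord a, ω.coord b])
  have h1 := congrArg (fun z => TensorProduct.rid B E (TensorProduct.map LinearMap.id φ z)) h0
  simp only [map_sum, TensorProduct.map_tmul, LinearMap.id_apply, TensorProduct.rid_tmul,
    map_zero] at h1
  have hφ : ∀ j i, φ (exteriorPower.ιMulti B 2 (Fin.cons (ω j) (fun _ => ω i))) =
      (if j = a then 1 else 0) * (if i = b then 1 else 0)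
        - (if j = b then 1 else 0) * (if i = a then 1 else 0) := by
    intro j i
    simp only [φ, exteriorPower.pairingDual_ιMulti_ιMulti, Matrix.det_fin_two, Matrix.of_apply]
    simp only [Fin.cons_zero, Matrix.cons_val_zero, Matrix.cons_val_one, Fin.cons_one,
      coord_basis]
  simp only [hφ, sub_smul, Finset.sum_sub_distrib, mul_ite, ite_smul, mul_one, mul_zero, zero_smul,
    one_smul, Finset.sum_ite_irrel, Finset.sum_ite_eq', Finset.sum_const_zero, Finset.mem_univ, if_true] at h1
  exact sub_eq_zero.mp h1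

variable (hcomm : ∀ (a b : Fin n) (x : E),
  LogConn.comp nabla ω a (LogConn.comp nabla ω b x) = LogConn.comp nabla ω b (LogConn.comp nabla ω a x))

include hcomm

omit [Module A L] [IsScalarTower A B L] in
theorem comp_compProd (k : Fin n) (J : Finset (Fin n)) (x : E) :
    LogConn.comp nabla ω k (LogConn.compProd nabla ω J x) =
      LogConn.compProd nabla ω J (LogConn.comp nabla ω k x) := by
  induction J using Finset.induction_on_min generalizing x with
  | empty => rw [compProd_empty, compProd_empty]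
  | insert i J hi ih =>
    rw [compProd_insert_min nabla ω hi, compProd_insert_min nabla ω hi, hcomm, ih]

omit [Module A L] [IsScalarTower A B L] in
theorem compProd_insert {k : Fin n} {J : Finset (Fin n)} (hk : k ∉ J) (x : E) :
    LogConn.compProd nabla ω (insert k J) x =
      LogConn.comp nabla ω k (LogConn.compProd nabla ω J x) := by
  induction J using Finset.induction_on_min generalizing x with
  | empty =>
    rw [compProd_insert_min nabla ω (fun j hj => absurd hj (Finset.notMem_empty j))]
  | insert i J hi ih =>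
    rw [Finset.mem_insert, not_or] at hk
    rcases lt_or_gt_of_ne hk.1 with h | h
    · exact compProd_insert_min nabla ω (fun j hj => by
        rcases Finset.mem_insert.mp hj with rfl | hj
        · exact h
        · exact lt_trans h (hi j hj)) x
    · rw [Finset.insert_comm, compProd_insert_min nabla ω (fun j hj => by
        rcases Finset.mem_insert.mp hj with rfl | hj
        · exact h
        · exact hi j hj), ih hk.2, compProd_insert_min nabla ω hi, hcomm]

omit [Module A L] [IsScalarTower A B L] in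
/-- Every component preserves every piece. -/
theorem comp_mem_piece (h : IsCoord nabla ω lam t) (k : Fin n) {I : Finset (Fin n)} {y : E}
    (hy : y ∈ LogConn.piece nabla ω t I) :
    LogConn.comp nabla ω k y ∈ LogConn.piece nabla ω t I := by
  classical
  obtain ⟨δ, hδ0, hδ1, hL⟩ := id h
  have hle : LogConn.piece nabla ω t I ≤
      (LogConn.piece nabla ω t I).comap (LogConn.comp nabla ω k) := by
    refine piece_le nabla ω fun J hJ x => ?_
    show LogConn.comp nabla ω k _ ∈ LogConn.piece nabla ω t I
    rw [hL, comp_compProd hcomm]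
    refine Submodule.add_mem _ (mem_piece_gen nabla ω hJ _) ?_
    by_cases hk : k ∈ I \ J
    · rw [← Finset.mul_prod_erase _ _ hk, Derivation.leibniz,
        deriv_prod_eq_zero hδ0 (Finset.notMem_erase k _), hδ1, smul_zero, zero_add, smul_eq_mul,
        mul_one, show lam * t k * (∏ i ∈ (I \ J).erase k, t i) =
          lam * (t k * ∏ i ∈ (I \ J).erase k, t i) by ring,
        Finset.mul_prod_erase _ _ hk, mul_smul]
      exact smul_mem_piece h _ (mem_piece_gen nabla ω hJ x)
    · rw [deriv_prod_eq_zero hδ0 hk, mul_zero, zero_smul]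
      exact Submodule.zero_mem _
  exact hle hy

omit [Module A L] [IsScalarTower A B L] in
/-- `∇ₖ` maps `E_I` into `E_{I + k}` when `k ∉ I`. -/
theorem comp_mem_piece_insert (h : IsCoord nabla ω lam t) {k : Fin n} {I : Finset (Fin n)}
    (hk : k ∉ I) {y : E} (hy : y ∈ LogConn.piece nabla ω t I) :
    LogConn.comp nabla ω k y ∈ LogConn.piece nabla ω t (insert k I) := by
  have hle : LogConn.piece nabla ω t I ≤
      (LogConn.piece nabla ω t (insert k I)).comap (LogConn.comp nabla ω k) := by
    refine piece_le nabla ω fun J hJ x => ?_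
    show LogConn.comp nabla ω k _ ∈ LogConn.piece nabla ω t (insert k I)
    rw [comp_smul_prod h (fun hm => hk (Finset.mem_sdiff.mp hm).1),
      ← compProd_insert hcomm (fun hm => hk (hJ hm)),
      show I \ J = insert k I \ insert k J by
        rw [Finset.insert_sdiff_of_mem _ (Finset.mem_insert_self k J),
          Finset.sdiff_insert, Finset.erase_eq_of_notMem (fun hm => hk (Finset.mem_sdiff.mp hm).1)]]
    exact mem_piece_gen nabla ω (Finset.insert_subset_insert k hJ) x
  exact hle hy

omit [Module A L] [IsScalarTower A B L] in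
/-- The pieces decrease. -/
theorem piece_anti (h : IsCoord nabla ω lam t) {I J : Finset (Fin n)} (hJI : J ⊆ I) :
    LogConn.piece nabla ω t I ≤ LogConn.piece nabla ω t J := by
  classical
  suffices key : ∀ (J : Finset (Fin n)) (k : Fin n), k ∉ J →
      LogConn.piece nabla ω t (insert k J) ≤ LogConn.piece nabla ω t J by
    have aux : ∀ S : Finset (Fin n), LogConn.piece nabla ω t (J ∪ S) ≤ LogConn.piece nabla ω t J := by
      intro S
      induction S using Finset.induction with
      | empty => rw [Finset.union_empty]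
      | insert k S hk ih =>
        rw [Finset.union_insert]
        by_cases hk' : k ∈ J ∪ S
        · rw [Finset.insert_eq_of_mem hk']; exact ih
        · exact (key _ k hk').trans ih
    rw [← Finset.union_sdiff_of_subset hJI]
    exact aux _
  intro J k hk
  refine piece_le nabla ω fun K hK x => ?_
  by_cases hkK : k ∈ K
  · obtain ⟨K', hkK', rfl⟩ : ∃ K', k ∉ K' ∧ K = insert k K' :=
      ⟨K.erase k, Finset.notMem_erase _ _, (Finset.insert_erase hkK).symm⟩
    have hK' : K' ⊆ J := fun a ha =>
      ((Finset.mem_insert.mp (hK (Finset.mem_insert_of_mem ha))).resolve_left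
        (fun hak => hkK' (hak ▸ ha)))
    rw [compProd_insert hcomm hkK', comp_compProd hcomm,
      Finset.insert_sdiff_of_mem _ (Finset.mem_insert_self k K'), Finset.sdiff_insert,
      Finset.erase_eq_of_notMem (fun hm => hk (Finset.mem_sdiff.mp hm).1)]
    exact mem_piece_gen nabla ω hK' _
  · have hK' : K ⊆ J := fun a ha =>
      ((Finset.mem_insert.mp (hK ha)).resolve_left (fun hak => hkK (hak ▸ ha)))
    rw [Finset.insert_sdiff_of_notMem _ hkK,
      Finset.prod_insert (fun hm => hk (Finset.mem_sdiff.mp hm).1), mul_smul]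
    exact smul_mem_piece h _ (mem_piece_gen nabla ω hK' _)

end Groth.Agent.Misc12.LC
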