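import Mathlib
import Groth.Agent.Misc12.LC.Flat

set_option autoImplicit false

universe v u

open TensorProduct

namespace Groth.Agent.Misc12.LC

variable {A : Type v} {B L E : Type u} [CommRing A] [CommRing B] [Algebra A B]
  [AddCommGroup L] [Module B L]
  [AddCommGroup E] [Module B E] [Module A E] [IsScalarTower A B E]
  {n : ℕ} {nabla : E →ₗ[A] E ⊗[B] L} {ω ω' : Module.Basis (Fin n) B L} {t t' : Fin n → B}
  {lam : B}

/-- The components in a second basis through those in the first. -/
theorem comp_change (i : Fin n) (y : E) :
    LogConn.comp nabla ω' i y = ∑ k, ω'.coord i (ω k) • LogConn.comp nabla ω k y := by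
  show Conn.along nabla (ω'.coord i) y = _
  rw [Conn.along_apply]
  conv_lhs => rw [sum_comp (ω := ω) (nabla y)]
  rw [map_sum, map_sum]
  refine Finset.sum_congr rfl fun k _ => ?_
  rw [TensorProduct.map_tmul, LinearMap.id_apply, TensorProduct.rid_tmul]
  rfl

/-- The pieces in the two coordinate systems agree. -/
theorem piece_eq (h : IsCoord nabla ω lam t) (h' : IsCoord nabla ω' lam t') (u : Fin n → Bˣ)
    (ht : ∀ i, t' i = (u i : B) * t i)
    (hM : ∀ i k, ∃ c, ω'.coord i (ω k) = (if k = i then 1 else 0) + t i * c)
    (hcomm : ∀ (a b : Fin n) (x : E), LogConn.comp nabla ω a (LogConn.comp nabla ω b x) =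
      LogConn.comp nabla ω b (LogConn.comp nabla ω a x)) (I : Finset (Fin n)) :
    LogConn.piece nabla ω' t' I = LogConn.piece nabla ω t I := by
  classical
  induction I using Finset.strongInduction with
  | H I ih =>
    have hprod : ∀ S : Finset (Fin n), (∏ i ∈ S, t' i) = (∏ i ∈ S, (u i : B)) * ∏ i ∈ S, t i :=
      fun S => by rw [← Finset.prod_mul_distrib]; exact Finset.prod_congr rfl fun i _ => ht i
    rcases Finset.eq_empty_or_nonempty I with rfl | hne
    · refine le_antisymm (piece_le nabla ω' fun J hJ x => ?_) (piece_le nabla ω fun J hJ x => ?_) <;>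
        obtain rfl := Finset.subset_empty.mp hJ
      · have := mem_piece_gen nabla ω (t := t) (Finset.Subset.refl ∅) x
        simpa [compProd_empty] using this
      · have := mem_piece_gen nabla ω' (t := t') (Finset.Subset.refl ∅) x
        simpa [compProd_empty] using this
    · obtain ⟨i, hi⟩ : ∃ i, I.min' hne = i := ⟨_, rfl⟩
      have hiI : i ∈ I := hi ▸ Finset.min'_mem I hne
      have hlt : ∀ j ∈ I.erase i, i < j := fun j hj =>
        lt_of_le_of_ne (hi ▸ Finset.min'_le I j (Finset.mem_of_mem_erase hj))
          (Finset.ne_of_mem_erase hj).symm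
      have hIe : insert i (I.erase i) = I := Finset.insert_erase hiI
      have ih0 := ih _ (Finset.erase_ssubset hiI)
      choose c hc using hM i
      have hsplit : ∀ y, LogConn.comp nabla ω' i y =
          LogConn.comp nabla ω i y + t i • ∑ k, c k • LogConn.comp nabla ω k y := by
        intro y
        rw [comp_change (ω := ω) i y, Finset.smul_sum]
        simp only [hc, add_smul, Finset.sum_add_distrib, ite_smul, one_smul, zero_smul,
          Finset.sum_ite_eq', Finset.mem_univ, if_true, mul_smul]
      have hII : I \ I.erase i = {i} := Finset.sdiff_erase_self hiI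
      apply le_antisymm
      · refine piece_le nabla ω' fun J hJ x => ?_
        rw [hprod, mul_smul]
        refine smul_mem_piece h _ ?_
        by_cases hJI : J = I
        · subst hJI
          rw [Finset.sdiff_self, Finset.prod_empty, one_smul, ← hIe,
            compProd_insert_min nabla ω' hlt, hsplit]
          have hy : LogConn.compProd nabla ω' (J.erase i) x ∈ LogConn.piece nabla ω t (J.erase i) :=
            ih0 ▸ compProd_mem_piece nabla ω' (t := t') _ x
          refine Submodule.add_mem _ (comp_min_mem h hlt hy) ?_
          rw [Finset.smul_sum, hIe]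
          refine Submodule.sum_mem _ fun k _ => ?_
          rw [smul_comm]
          refine smul_mem_piece h _ ?_
          have h2 := smul_piece_mem nabla ω t (Finset.erase_subset i J)
            (comp_mem_piece hcomm h k hy)
          rwa [hII, Finset.prod_singleton] at h2
        · have := ih J (lt_of_le_of_ne hJ hJI)
          exact smul_piece_mem nabla ω t hJ (this ▸ compProd_mem_piece nabla ω' (t := t') J x)
      · refine piece_le nabla ω fun J hJ x => ?_
        have hprod' : (∏ l ∈ I \ J, t l) =
            (∏ l ∈ I \ J, (((u l)⁻¹ : Bˣ) : B)) * ∏ l ∈ I \ J, t' l := by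
          rw [← Finset.prod_mul_distrib]
          exact Finset.prod_congr rfl fun l _ => by rw [ht, ← mul_assoc, Units.inv_mul, one_mul]
        rw [hprod', mul_smul]
        refine smul_mem_piece h' _ ?_
        by_cases hJI : J = I
        · subst hJI
          rw [Finset.sdiff_self, Finset.prod_empty, one_smul, ← hIe,
            compProd_insert_min nabla ω hlt]
          have hy0 := compProd_mem_piece nabla ω (t := t) (J.erase i) x
          have hy : LogConn.compProd nabla ω (J.erase i) x ∈ LogConn.piece nabla ω' t' (J.erase i) :=
            ih0.symm ▸ hy0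
          rw [eq_sub_of_add_eq (hsplit (LogConn.compProd nabla ω (J.erase i) x)).symm]
          refine Submodule.sub_mem _ (comp_min_mem h' hlt hy) ?_
          rw [Finset.smul_sum, hIe]
          refine Submodule.sum_mem _ fun k _ => ?_
          rw [smul_comm]
          refine smul_mem_piece h' _ ?_
          have h2 := smul_piece_mem nabla ω' t' (Finset.erase_subset i J)
            (ih0.symm ▸ comp_mem_piece hcomm h k hy0)
          rw [hII, Finset.prod_singleton, ht] at h2
          have h3 := smul_mem_piece h' (((u i)⁻¹ : Bˣ) : B) h2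
          rwa [smul_smul, ← mul_assoc, Units.inv_mul, one_mul] at h3
        · have := ih J (lt_of_le_of_ne hJ hJI)
          exact smul_piece_mem nabla ω' t' hJ
            (this.symm ▸ compProd_mem_piece nabla ω (t := t) J x)

/-- A layer built from a nearby basis is contained in the layer. -/
theorem layer_le (h : IsCoord nabla ω lam t)
    (heq : ∀ I, LogConn.piece nabla ω' t' I = LogConn.piece nabla ω t I)
    (hanti : ∀ I J : Finset (Fin n), J ⊆ I → LogConn.piece nabla ω t I ≤ LogConn.piece nabla ω t J)
    (hω : ∀ i, ω' i - ω i ∈ polefree ω t) (p : ℕ) :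
    LogConn.layer nabla ω' t' p ≤ LogConn.layer nabla ω t p := by
  classical
  intro x hx
  rw [mem_layer] at hx
  rw [sum_coordE (ω := ω') p x]
  refine Submodule.sum_mem _ fun K _ => ?_
  have hy := hx K
  rw [heq] at hy
  set e := (K : Finset (Fin n)).orderEmbOfFin K.prop with he
  rw [basis_eq, show (fun a => ω' (e a)) = (fun a => ω (e a)) + fun a => (ω' (e a) - ω (e a)) by
      funext a; simp,
    ← AlternatingMap.coe_multilinearMap, MultilinearMap.map_add_univ, TensorProduct.tmul_sum]
  refine Submodule.sum_mem _ fun s _ => ?_
  refine tmul_mem_layer h (I := s.image e) (hanti _ _ ?_ hy) (fun a => ?_) (fun i hi => ?_)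
  · intro i hi
    obtain ⟨a, -, rfl⟩ := Finset.mem_image.mp hi
    exact Finset.orderEmbOfFin_mem _ _ _
  · by_cases ha : a ∈ s
    · exact Or.inl ⟨e a, Finset.mem_image_of_mem _ ha, by simp [ha]⟩
    · exact Or.inr (by rw [Finset.piecewise_eq_of_notMem _ _ _ ha]; exact hω _)
  · obtain ⟨a, ha, rfl⟩ := Finset.mem_image.mp hi
    exact ⟨a, by simp [ha]⟩

end Groth.Agent.Misc12.LC
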